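import Groth.Agent.CycLib.ZeroTop.Content
import Groth.Agent.CycLib.DevClosed
import Groth.Agent.CycLib.DevZeroSec
import Groth.Agent.CycLib.FlatLength
import Groth.Agent.CycLib.ShiftPull
import Groth.Agent.CycLib.SheafSpec

/-!
The cycle of a family of ideals of the local rings, e.g. of the zero scheme of a section.
-/

set_option autoImplicit false
set_option linter.style.haveILetI false
set_option maxHeartbeats 800000

universe u

open CategoryTheory Limits AlgebraicGeometry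

noncomputable section

namespace Groth.Agent.CycLib.ZeroTop

open Groth.Agent.CycLib.Dev

variable {X : Scheme.{u}}

/-- The coefficients of the cycle cut out by a family of ideals. -/
def idFun (δ : X → ℤ) (k : ℤ) (J : (x : X) → Ideal (X.presheaf.stalk x)) : X → ℤ := fun x =>
  if δ x = k then ((Module.length (X.presheaf.stalk x) (X.presheaf.stalk x ⧸ J x)).toNat : ℤ) else 0

theorem idFun_of_top {δ : X → ℤ} {k : ℤ} {J : (x : X) → Ideal (X.presheaf.stalk x)} {x : X} (h : J x = ⊤) :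
    idFun δ k J x = 0 := by
  haveI : Subsingleton (X.presheaf.stalk x ⧸ J x) := Ideal.Quotient.subsingleton_iff.2 h
  rw [idFun, Module.length_eq_zero_iff.2 inferInstance]
  simp

theorem isCyc_idFun [IsLocallyNoetherian X] {δ : X → ℤ} (hd : Cyc.IsDimFun X δ) {k : ℤ}
    (J : (x : X) → Ideal (X.presheaf.stalk x)) {C : Set X} (hC : IsClosed C) (hJ : ∀ x ∉ C, J x = ⊤)
    (hdim : ∀ x ∈ C, δ x ≤ k) : IsCyc δ k (idFun δ k J) := by
  refine ⟨fun U hU => ?_, fun x hx => if_neg hx⟩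
  haveI : IsNoetherianRing Γ(X, U) := IsLocallyNoetherian.component_noetherian ⟨_, hU⟩
  obtain ⟨I, hI⟩ := (PrimeSpectrum.isClosed_iff_zeroLocus_ideal _).1 (hC.preimage hU.fromSpec.continuous)
  refine (((I.finite_minimalPrimes_of_isNoetherianRing _).preimage
    (f := fun Q : PrimeSpectrum Γ(X, U) => Q.asIdeal)
    (fun a _ b _ e => PrimeSpectrum.ext e)).image hU.fromSpec).subset ?_
  rintro x ⟨hxU, hx⟩
  have hxC : x ∈ C := by_contra fun h => hx (idFun_of_top (hJ x h))
  have hxk : δ x = k := by_contra fun h => hx (if_neg h)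
  have hmem : ∀ q : PrimeSpectrum Γ(X, U), I ≤ q.asIdeal ↔ hU.fromSpec q ∈ C := fun q => by
    rw [← SetLike.coe_subset_coe, ← PrimeSpectrum.mem_zeroLocus]
    exact (Set.ext_iff.1 hI q).symm
  refine ⟨hU.primeIdealOf ⟨x, hxU⟩, ⟨⟨(hU.primeIdealOf ⟨x, hxU⟩).isPrime,
    (hmem _).2 (by rw [hU.fromSpec_primeIdealOf]; exact hxC)⟩, fun q hq hle => ?_⟩, hU.fromSpec_primeIdealOf _⟩
  have h1 := (primeIdealOf_le_iff hU ⟨q, hq.1⟩ (hU.primeIdealOf ⟨x, hxU⟩)).1 hle
  rw [hU.fromSpec_primeIdealOf] at h1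
  have h2 : hU.fromSpec ⟨q, hq.1⟩ = x :=
    eq_of_specializes hd h1 (by rw [hxk]; exact hdim _ ((hmem ⟨q, hq.1⟩).1 hq.2))
  exact (congrArg PrimeSpectrum.asIdeal (hU.fromSpec.isOpenEmbedding.injective
    (h2.trans (hU.fromSpec_primeIdealOf ⟨x, hxU⟩).symm))).ge

theorem subschemeFun_id_eq [IsLocallyNoetherian X] (δ : X → ℤ) (k : ℤ) :
    Cyc.subschemeFun δ k (𝟙 X) = idFun δ k fun _ => ⊥ := by
  funext x
  obtain ⟨m, rfl⟩ : ∃ m, k = m + 1 := ⟨k - 1, by ring⟩
  rw [subschemeFun_id, idFun]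
  refine if_congr Iff.rfl ?_ rfl
  rw [(Submodule.quotEquivOfEqBot (⊥ : Submodule (X.presheaf.stalk x) (X.presheaf.stalk x)) rfl).length_eq]

theorem subschemeFun_eq_idFun [IsLocallyNoetherian X] {Z : Scheme.{u}} (i : Z ⟶ X) [IsClosedImmersion i] (δ : X → ℤ) (k : ℤ)
    (J : (x : X) → Ideal (X.presheaf.stalk x)) (htop : ∀ x ∉ Set.range i, J x = ⊤)
    (hker : ∀ z : Z, RingHom.ker (i.stalkMap z).hom = J (i z)) : Cyc.subschemeFun δ k i = idFun δ k J := by
  funext x
  by_cases hx : x ∈ Set.range i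
  · obtain ⟨z, rfl⟩ := hx
    obtain ⟨m, rfl⟩ : ∃ m, k = m + 1 := ⟨k - 1, by ring⟩
    rw [subschemeFun_apply, idFun]
    refine if_congr Iff.rfl ?_ rfl
    have hs := i.stalkMap_surjective z
    letI := (i.stalkMap z).hom.toAlgebra
    rw [← Module.length_eq_of_surjective (S := X.presheaf.stalk (i z)) (R := Z.presheaf.stalk z)
      (M := Z.presheaf.stalk z) hs]
    have e : (Algebra.linearMap (X.presheaf.stalk (i z)) (Z.presheaf.stalk z)).ker = J (i z) := by
      rw [← hker z]; rfl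
    rw [← ((Submodule.quotEquivOfEq _ _ e).symm.trans
      ((Algebra.linearMap (X.presheaf.stalk (i z)) (Z.presheaf.stalk z)).quotKerEquivOfSurjective hs)).length_eq]
  · rw [idFun_of_top (htop x hx), Cyc.subschemeFun]
    split_ifs
    · rw [show {z : Z | i z = x} = ∅ from Set.eq_empty_iff_forall_notMem.2 fun z hz => hx ⟨z, hz⟩]
      simp
    · rfl

theorem pullFun_idFun {Y : Scheme.{u}} [IsLocallyNoetherian Y] (f : Y ⟶ X) [Flat f] {δ : X → ℤ} {δY : Y → ℤ}
    (hdY : Cyc.IsDimFun Y δY) {c : ℤ} (hs : ShiftBy f δY δ c) {k : ℤ}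
    (J : (x : X) → Ideal (X.presheaf.stalk x)) (J' : (y : Y) → Ideal (Y.presheaf.stalk y))
    (hJ : ∀ y, J' y = (J (f y)).map (f.stalkMap y).hom) (hdim : ∀ x, J x ≠ ⊤ → δ x ≤ k) :
    Cyc.pullFun f δY δ c (idFun δ k J) = idFun δY (k + c) J' := by
  funext y
  by_cases hJy : J (f y) = ⊤
  · rw [Cyc.pullFun, idFun_of_top hJy, zero_mul, idFun_of_top (by rw [hJ, hJy, Ideal.map_top])]
    simp
  have hle : δY y ≤ δ (f y) + c := hs.le hdY y
  have hk := hdim _ hJy
  by_cases hy : δY y = k + c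
  · have hfy : δ (f y) = k := by omega
    rw [Cyc.pullFun, if_pos (by omega), idFun, if_pos hfy, idFun, if_pos hy, hJ]
    letI := (f.stalkMap y).hom.toAlgebra
    haveI : Module.Flat (X.presheaf.stalk (f y)) (Y.presheaf.stalk y) := Flat.stalkMap f y
    haveI : IsLocalHom (algebraMap (X.presheaf.stalk (f y)) (Y.presheaf.stalk y)) :=
      inferInstanceAs (IsLocalHom (f.stalkMap y).hom)
    have h := CycLib.length_quotient_map (A := X.presheaf.stalk (f y)) (B := Y.presheaf.stalk y) (J (f y))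
    rw [show (f.stalkMap y).hom = algebraMap (X.presheaf.stalk (f y)) (Y.presheaf.stalk y) from rfl, h,
      ENat.toNat_mul, Nat.cast_mul]
  · rw [idFun, if_neg hy, Cyc.pullFun]
    split_ifs with h
    · rw [idFun, if_neg (by omega), zero_mul]
    · rfl

end Groth.Agent.CycLib.ZeroTop
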