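import Groth.Agent.CycLib.ChowOp.DetFilt
import Groth.Agent.Desc44.ProjBundle.Main

/-!
The ideal generated by the coordinates of a vector, and of a section of a locally free module.
-/

set_option autoImplicit false
set_option linter.style.haveILetI false
set_option maxHeartbeats 800000

universe u

open CategoryTheory Limits AlgebraicGeometry

noncomputable section

namespace Groth.Agent.CycLib.ZeroTop

open Groth.Agent.PullStalk.Sky Groth.Agent.PullStalk.Exact

section Alg

variable {R M N : Type*} [CommRing R] [AddCommGroup M] [Module R M] [AddCommGroup N] [Module R N]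

/-- The ideal of values of all linear forms at a vector. -/
def coIdeal (R : Type*) {M : Type*} [CommRing R] [AddCommGroup M] [Module R M] (v : M) : Ideal R :=
  LinearMap.range (Module.Dual.eval R M v)

theorem mem_coIdeal {v : M} {a : R} : a ∈ coIdeal R v ↔ ∃ φ : Module.Dual R M, φ v = a := Iff.rfl

theorem coIdeal_eq_span {ι : Type*} [Finite ι] (b : Module.Basis ι R M) (v : M) :
    coIdeal R v = Ideal.span (Set.range fun l => b.repr v l) := by
  haveI := Fintype.ofFinite ι
  refine le_antisymm ?_ (Ideal.span_le.2 ?_)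
  · rintro a ⟨φ, rfl⟩
    show φ v ∈ _
    conv => arg 2; rw [← b.sum_repr v, map_sum]
    refine Ideal.sum_mem _ fun l _ => ?_
    rw [map_smul, smul_eq_mul]
    exact Ideal.mul_mem_right _ _ (Ideal.subset_span ⟨l, rfl⟩)
  · rintro a ⟨l, rfl⟩
    exact ⟨b.coord l, rfl⟩

theorem coIdeal_map_le (g : M →ₗ[R] N) (v : M) : coIdeal R (g v) ≤ coIdeal R v := by
  rintro a ⟨φ, rfl⟩
  exact ⟨φ.comp g, rfl⟩

theorem coIdeal_map_of_retraction (g : M →ₗ[R] N) (g' : N →ₗ[R] M) (h : ∀ m, g' (g m) = m) (v : M) :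
    coIdeal R (g v) = coIdeal R v :=
  le_antisymm (coIdeal_map_le g v) (by simpa [h] using coIdeal_map_le g' (g v))

theorem coIdeal_equiv (e : M ≃ₗ[R] N) (v : M) : coIdeal R (e v) = coIdeal R v :=
  coIdeal_map_of_retraction e.toLinearMap e.symm.toLinearMap e.symm_apply_apply v

theorem coIdeal_smul {t : M} (ht : Function.Bijective (LinearMap.toSpanSingleton R M t)) (a : R) :
    coIdeal R (a • t) = Ideal.span {a} := by
  refine le_antisymm ?_ ((Ideal.span_singleton_le_iff_mem _).2 ?_)
  · rintro x ⟨φ, rfl⟩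
    exact Ideal.mem_span_singleton'.2 ⟨φ t, by show φ t * a = φ (a • t); rw [map_smul, smul_eq_mul, mul_comm]⟩
  · exact ⟨(LinearEquiv.ofBijective _ ht).symm.toLinearMap, (LinearEquiv.ofBijective _ ht).symm_apply_apply a⟩

theorem coIdeal_semilinear {S N' : Type*} [CommRing S] [AddCommGroup N'] [Module S N'] (φ : R →+* S)
    (h : M →+ N') (hs : ∀ (r : R) (m : M), h (r • m) = φ r • h m) {ι : Type*} [Finite ι]
    (b : Module.Basis ι R M) (c : Module.Basis ι S N') (hbc : ∀ l, c l = h (b l)) (v : M) :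
    coIdeal S (h v) = (coIdeal R v).map φ := by
  haveI := Fintype.ofFinite ι
  rw [coIdeal_eq_span b, coIdeal_eq_span c, Ideal.map_span, ← Set.range_comp]
  congr 1
  refine congrArg Set.range (funext fun l => ?_)
  have e : c.equivFun (h v) = fun l => φ (b.repr v l) := by
    rw [← LinearEquiv.eq_symm_apply, Module.Basis.equivFun_symm_apply]
    conv_lhs => rw [← b.sum_repr v, map_sum]
    simp only [hs, hbc]
  exact congrFun e l

/-- A basis adapted to an extension by a line. -/
theorem coIdeal_extension {n : ℕ} {E : Type*} [AddCommGroup E] [Module R E] {a : M →ₗ[R] E} {b : E →ₗ[R] N}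
    (ha : Function.Injective a) (hex : Function.Exact a b) (hb : Function.Surjective b) {ν : N}
    (hν : Function.Bijective (LinearMap.toSpanSingleton R N ν)) (m : Module.Basis (Fin n) R M) (v : E) (c : R)
    (hc : b v = c • ν) :
    (∃ f : Fin n → R, coIdeal R v = Ideal.span (Set.range (Fin.cons c f : Fin (n + 1) → R))) ∧
      ∃ g : E →ₗ[R] M, ∀ y, g (a y) = y := by
  obtain ⟨u₀, hu⟩ := hb ν
  obtain ⟨e, he0, hes, -⟩ := ChowOp.exists_adapted ha hex hν hu m
  have hbe : ∀ w : E, b w = e.repr w 0 • ν := fun w => by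
    conv_lhs => rw [← e.sum_repr w, map_sum]
    rw [Fin.sum_univ_succ, map_smul, he0, hu, Finset.sum_eq_zero, add_zero]
    intro i _
    rw [map_smul, hes, hex.apply_apply_eq_zero, smul_zero]
  refine ⟨⟨fun i => e.repr v i.succ, ?_⟩, ?_⟩
  · rw [coIdeal_eq_span e]
    congr 1
    refine congrArg Set.range (funext fun l => ?_)
    refine Fin.cases ?_ (fun i => ?_) l
    · rw [Fin.cons_zero]
      exact hν.1 ((hbe v).symm.trans hc)
    · rw [Fin.cons_succ]
  · refine ⟨e.constr R (Fin.cons 0 fun i => m i), fun y => ?_⟩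
    have : ((e.constr R (Fin.cons 0 fun i => m i)).comp a : M →ₗ[R] M) = LinearMap.id := m.ext fun i => by
      rw [LinearMap.comp_apply, ← hes i, Module.Basis.constr_basis, Fin.cons_succ]
      rfl
    exact LinearMap.congr_fun this y

end Alg

variable {X : Scheme.{u}}

/-- The basis of a stalk given by a frame. -/
def frameBasis {E : X.Modules} {U : X.Opens} {n : ℕ} {e : Fin n → Γ(E, U)} (he : LFFrame.IsFrame E U e) (x : X)
    (hx : x ∈ U) : Module.Basis (Fin n) (X.presheaf.stalk x) (E.presheaf.stalk x) :=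
  Module.Basis.ofEquivFun (LinearEquiv.ofBijective _ (he.stalkComb_bijective x hx)).symm

theorem frameBasis_apply {E : X.Modules} {U : X.Opens} {n : ℕ} {e : Fin n → Γ(E, U)}
    (he : LFFrame.IsFrame E U e) (x : X) (hx : x ∈ U) (i : Fin n) :
    frameBasis he x hx i = germM E U x hx (e i) := by
  classical
  simp [frameBasis, LFFrame.stalkComb, Fintype.linearCombination_apply_single]

theorem frameBasis_repr {E : X.Modules} {U : X.Opens} {n : ℕ} {e : Fin n → Γ(E, U)}
    (he : LFFrame.IsFrame E U e) (x : X) (hx : x ∈ U) {V : X.Opens} (hV : V ≤ U) (hxV : x ∈ V)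
    (a : Fin n → Γ(X, V)) (l : Fin n) :
    (frameBasis he x hx).repr (germM E V x hxV (LFFrame.comb E e hV a)) l = X.presheaf.germ V x hxV (a l) := by
  rw [LFFrame.germ_comb, ← Module.Basis.equivFun_apply]
  have : (∑ i, X.presheaf.germ V x hxV (a i) • germM E U x (hV hxV) (e i) : E.presheaf.stalk x) =
      (frameBasis he x hx).equivFun.symm fun i => X.presheaf.germ V x hxV (a i) := by
    rw [Module.Basis.equivFun_symm_apply]
    simp only [frameBasis_apply]
  rw [this, LinearEquiv.apply_symm_apply]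

theorem exists_frame {E : X.Modules} {r : ℕ} (hE : FlatMod.IsFinLocFreeOfRank r E) (x : X) :
    ∃ (U : X.Opens) (e : Fin r → Γ(E, U)), x ∈ U ∧ LFFrame.IsFrame E U e :=
  Desc44.ProjBundle.exists_frame_of_rank hE x

/-- The ideal of the zero locus of a section in a local ring. -/
def zJ (E : X.Modules) (s : E.presheaf.obj (Opposite.op ⊤)) (x : X) : Ideal (X.presheaf.stalk x) :=
  coIdeal (X.presheaf.stalk x) (germM E ⊤ x trivial s)

/-- The pull-back of a global section. -/
def gsec {Y : Scheme.{u}} (f : Y ⟶ X) (E : X.Modules) (s : E.presheaf.obj (Opposite.op ⊤)) :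
    ((Scheme.Modules.pullback f).obj E).presheaf.obj (Opposite.op ⊤) :=
  LFFrame.unitSec f E ⊤ s

theorem germ_gsec {Y : Scheme.{u}} (f : Y ⟶ X) (E : X.Modules) (s : E.presheaf.obj (Opposite.op ⊤)) (y : Y) :
    germM _ ⊤ y trivial (gsec f E s) =
      PullStalk.Basic.unitStalkHom f E y (germM E ⊤ (f y) trivial s) :=
  (PullStalk.Basic.unitStalkHom_germ f E y ⊤ trivial s).symm

theorem coIdeal_unit {Y : Scheme.{u}} (f : Y ⟶ X) {E : X.Modules} {r : ℕ} (hE : FlatMod.IsFinLocFreeOfRank r E)
    (y : Y) (v : E.presheaf.stalk (f y)) :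
    coIdeal (Y.presheaf.stalk y) (PullStalk.Basic.unitStalkHom f E y v) =
      (coIdeal (X.presheaf.stalk (f y)) v).map (f.stalkMap y).hom := by
  obtain ⟨U, e, hy, he⟩ := exists_frame hE (f y)
  refine coIdeal_semilinear (M := E.presheaf.stalk (f y)) (f.stalkMap y).hom
    (AddMonoidHom.mk' (fun v => PullStalk.Basic.unitStalkHom f E y v) fun a b => map_add _ a b)
    (fun a m => PullStalk.Basic.unitStalkHom_smul f E y a m) (frameBasis he (f y) hy)
    (frameBasis (he.pullback f) y hy) (fun l => ?_) v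
  refine (frameBasis_apply (he.pullback f) y hy l).trans ?_
  refine (PullStalk.Basic.unitStalkHom_germ f E y U hy (e l)).symm.trans ?_
  exact congrArg (fun w => PullStalk.Basic.unitStalkHom f E y w) (frameBasis_apply he (f y) hy l).symm

theorem zJ_gsec {Y : Scheme.{u}} (f : Y ⟶ X) {E : X.Modules} {r : ℕ} (hE : FlatMod.IsFinLocFreeOfRank r E)
    (s : E.presheaf.obj (Opposite.op ⊤)) (y : Y) :
    zJ _ (gsec f E s) y = (zJ E s (f y)).map (f.stalkMap y).hom := by
  rw [zJ, germ_gsec, coIdeal_unit f hE]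
  rfl

theorem zJ_iso {E E' : X.Modules} (φ : E ≅ E') (s : E.presheaf.obj (Opposite.op ⊤)) (x : X) :
    zJ E' (φ.hom.app ⊤ s) x = zJ E s x := by
  rw [zJ, ← stalkLin_germ φ.hom ⊤ x trivial s]
  refine coIdeal_map_of_retraction _ (stalkLin φ.inv x) (fun m => ?_) _
  obtain ⟨U, hx, m, rfl⟩ := exists_germM_eq E x m
  rw [stalkLin_germ, stalkLin_germ]
  refine congrArg (germM E U x hx) ?_
  show (φ.hom ≫ φ.inv).app U m = m
  rw [φ.hom_inv_id]
  rfl

/-- The zero locus of a section is closed. -/
theorem isClosed_zJ {E : X.Modules} {r : ℕ} (hE : FlatMod.IsFinLocFreeOfRank r E)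
    (s : E.presheaf.obj (Opposite.op ⊤)) : IsClosed {x : X | zJ E s x ≠ ⊤} := by
  rw [← isOpen_compl_iff, isOpen_iff_forall_mem_open]
  intro x hx
  obtain ⟨U, e, hxU, he⟩ := exists_frame hE x
  obtain ⟨a, ha⟩ := (he U le_rfl).2 (E.presheaf.map (homOfLE le_top).op s)
  have key : ∀ (y : X) (hy : y ∈ U), zJ E s y = Ideal.span (Set.range fun l => X.presheaf.germ U y hy (a l)) := by
    intro y hy
    rw [zJ, coIdeal_eq_span (frameBasis he y hy)]
    congr 1
    refine congrArg Set.range (funext fun l => ?_)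
    rw [← frameBasis_repr he y hy le_rfl hy a l, ha]
    exact congrArg (fun v => (frameBasis he y hy).repr v l) (E.presheaf.germ_res_apply _ y hy s).symm
  simp only [Set.mem_compl_iff, Set.mem_ofPred_eq, not_not] at hx
  obtain ⟨l, hl⟩ : ∃ l, IsUnit (X.presheaf.germ U x hxU (a l)) := by
    by_contra h
    push Not at h
    have : zJ E s x ≤ IsLocalRing.maximalIdeal _ := by
      rw [key x hxU, Ideal.span_le]
      rintro _ ⟨l, rfl⟩
      exact h l
    rw [hx, top_le_iff] at this
    exact (IsLocalRing.maximalIdeal.isMaximal _).ne_top this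
  refine ⟨X.basicOpen (a l), fun y hy => ?_, (X.basicOpen (a l)).2, (X.mem_basicOpen _ _ hxU).2 hl⟩
  have hyU := X.basicOpen_le _ hy
  simp only [Set.mem_compl_iff, Set.mem_ofPred_eq, not_not]
  rw [key y hyU]
  exact Ideal.eq_top_of_isUnit_mem _ (Ideal.subset_span ⟨l, rfl⟩) ((X.mem_basicOpen _ _ hyU).1 hy)

end Groth.Agent.CycLib.ZeroTop
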